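import Groth.Agent.L02.CAlg.RefinedNN
import Mathlib.RingTheory.IntegralClosure.GoingDown
import Mathlib.RingTheory.Polynomial.UniqueFactorization
import Mathlib.RingTheory.Polynomial.RationalRoot

/-!
Noether normalisation adapted to a chain of primes.
-/

set_option autoImplicit false
set_option linter.style.haveILetI false

universe u

open MvPolynomial

namespace Groth.L28.ChainNN

variable {k : Type u} [Field k] {d : ℕ}

/-- The linear prime of the first `t` variables. -/
noncomputable def lin (k : Type u) [Field k] (d t : ℕ) : Ideal (MvPolynomial (Fin d) k) :=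
  Ideal.span (X '' {l : Fin d | (l : ℕ) < t})

lemma lin_mono {s t : ℕ} (h : s ≤ t) : lin k d s ≤ lin k d t :=
  Ideal.span_mono (Set.image_mono fun _ hl => lt_of_lt_of_le hl h)

lemma lin_zero : lin k d 0 = ⊥ := by simp [lin]

/-- Killing the first `t` variables. -/
noncomputable def killFirst (k : Type u) [Field k] (d t : ℕ) :
    MvPolynomial (Fin d) k →ₐ[k] MvPolynomial {l : Fin d // t ≤ (l : ℕ)} k :=
  aeval fun l => if h : t ≤ (l : ℕ) then X ⟨l, h⟩ else 0

lemma killFirst_rename (t : ℕ) (p : MvPolynomial {l : Fin d // t ≤ (l : ℕ)} k) :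
    killFirst k d t (rename Subtype.val p) = p := by
  rw [killFirst, aeval_rename]
  conv_rhs => rw [← aeval_X_left_apply p]
  congr 1
  refine algHom_ext fun i => ?_
  simp [i.2]

lemma killFirst_surjective (t : ℕ) : Function.Surjective (killFirst k d t) :=
  fun p => ⟨_, killFirst_rename t p⟩

lemma sub_rename_killFirst_mem (t : ℕ) (p : MvPolynomial (Fin d) k) :
    p - rename Subtype.val (killFirst k d t p) ∈ lin k d t := by
  induction p using MvPolynomial.induction_on with
  | C a => simp [killFirst]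
  | add p q hp hq => rw [map_add, map_add, add_sub_add_comm]; exact add_mem hp hq
  | mul_X p i hp =>
    rw [map_mul, map_mul]
    by_cases h : t ≤ (i : ℕ)
    · simp only [killFirst, aeval_X, dif_pos h, rename_X, ← sub_mul] at hp ⊢
      exact Ideal.mul_mem_right _ _ hp
    · simp only [killFirst, aeval_X, dif_neg h, map_zero, mul_zero, sub_zero]
      exact Ideal.mul_mem_left _ _ (Ideal.subset_span ⟨i, not_le.1 h, rfl⟩)

lemma ker_killFirst (t : ℕ) : RingHom.ker (killFirst k d t) = lin k d t := by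
  refine le_antisymm (fun p hp => ?_) (Ideal.span_le.2 ?_)
  · have h : killFirst k d t p = 0 := hp
    simpa [h] using sub_rename_killFirst_mem t p
  · rintro _ ⟨l, hl, rfl⟩
    simp [killFirst, not_le.2 (show (l : ℕ) < t from hl)]

instance isPrime_lin (t : ℕ) : (lin k d t).IsPrime := by
  rw [← ker_killFirst]; exact RingHom.ker_isPrime _

lemma X_mem_lin_iff {t : ℕ} (l : Fin d) : (X l : MvPolynomial (Fin d) k) ∈ lin k d t ↔ (l : ℕ) < t := by
  refine ⟨fun h => ?_, fun h => Ideal.subset_span ⟨l, h, rfl⟩⟩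
  by_contra hl
  rw [← ker_killFirst, RingHom.mem_ker] at h
  simp [killFirst, not_lt.1 hl, X_ne_zero] at h

lemma le_of_lin_le {s t : ℕ} (hs : s ≤ d) (h : lin k d s ≤ lin k d t) : s ≤ t := by
  by_contra hst
  push Not at hst
  have := (X_mem_lin_iff (k := k) (⟨t, by omega⟩ : Fin d)).1 (h ((X_mem_lin_iff _).2 hst))
  exact lt_irrefl _ this

lemma ringKrullDim_quotient_lin {t : ℕ} (ht : t ≤ d) :
    ringKrullDim (MvPolynomial (Fin d) k ⧸ lin k d t) = ((d - t : ℕ) : WithBot ℕ∞) := by
  let e := (Ideal.quotientEquivAlgOfEq k (ker_killFirst (k := k) (d := d) t).symm).trans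
    (Ideal.quotientKerAlgEquivOfSurjective (killFirst_surjective t))
  rw [ringKrullDim_eq_of_ringEquiv e.toRingEquiv, MvPolynomial.ringKrullDim_of_isNoetherianRing,
    ringKrullDim_eq_zero_of_field, zero_add]
  congr 1
  rw [Nat.card_eq_fintype_card, Fintype.card_congr (Equiv.subtypeEquivRight
    (q := fun l : Fin d => ¬ (l : ℕ) < t) fun l => not_lt.symm), Fintype.card_subtype_compl,
    Fintype.card_fin, Fintype.card_congr (Equiv.ofBijective
      (fun l : {l : Fin d // (l : ℕ) < t} => (⟨l.1, l.2⟩ : Fin t))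
      ⟨fun a b h => Subtype.ext (Fin.ext (congrArg Fin.val h :)),
        fun j => ⟨⟨⟨j, by omega⟩, j.2⟩, rfl⟩⟩), Fintype.card_fin]

/-- An integral endomorphism of a polynomial ring is injective. -/
theorem injective_of_isIntegral (φ : MvPolynomial (Fin d) k →ₐ[k] MvPolynomial (Fin d) k)
    (hφ : φ.toRingHom.IsIntegral) : Function.Injective φ := by
  let P := MvPolynomial (Fin d) k
  let K : Ideal P := RingHom.ker φ
  haveI : K.IsPrime := RingHom.ker_isPrime φ
  let φ' : P ⧸ K →ₐ[k] P := Ideal.kerLiftAlg φ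
  letI := φ'.toRingHom.toAlgebra
  have hint : φ'.toRingHom.IsIntegral :=
    RingHom.IsIntegral.tower_top (f := Ideal.Quotient.mk K) (g := φ'.toRingHom) (by
      rwa [show φ'.toRingHom.comp (Ideal.Quotient.mk K) = φ.toRingHom from RingHom.ext fun x => rfl])
  haveI : Algebra.IsIntegral (P ⧸ K) P := ⟨hint⟩
  have hdim : ringKrullDim P = ringKrullDim (P ⧸ K) :=
    Groth.L22.AffineDim.ringKrullDim_eq_of_isIntegral (Ideal.kerLiftAlg_injective φ)
  obtain ⟨h, e, D, hh, he, hD, hhe⟩ := Groth.L22.AffineDim.dim_formula k P K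
  rw [he, hD] at hdim
  have : D = e := by exact_mod_cast hdim
  have h0 : h = 0 := by omega
  have hK : K = ⊥ := Ideal.height_eq_zero_iff_eq_bot.1 (by rw [hh, h0]; rfl)
  exact (RingHom.injective_iff_ker_eq_bot _).2 hK

/-- A self map of the polynomial ring straightening a chain of primes. -/
theorem exists_coord_chain : ∀ (n : ℕ) (r : ℕ) (q : Fin r → Ideal (MvPolynomial (Fin n) k)),
    (∀ i, (q i).IsPrime) → Monotone q →
    ∃ φ : MvPolynomial (Fin n) k →ₐ[k] MvPolynomial (Fin n) k, φ.toRingHom.IsIntegral ∧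
      ∀ i, ∃ s ≤ n, (q i).comap φ = lin k n s := by
  intro n
  induction n with
  | zero =>
    intro r q hq _
    refine ⟨AlgHom.id k _, RingHom.isIntegral_of_surjective _ Function.surjective_id,
      fun i => ⟨0, le_rfl, ?_⟩⟩
    have : q i = ⊥ := by
      rw [eq_bot_iff]
      intro a ha
      by_contra ha0
      rw [Submodule.mem_bot] at ha0
      refine (hq i).ne_top (Ideal.eq_top_of_isUnit_mem _ ha ?_)
      rw [eq_C_of_isEmpty a] at ha0 ⊢
      exact (isUnit_iff_ne_zero.mpr (fun h => ha0 (by rw [h, map_zero]))).map _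
    rw [this, Ideal.comap_bot_of_injective _ Function.injective_id, lin_zero]
  | succ d hd =>
    intro r q hq hmono
    by_cases hbot : ∀ i, q i = ⊥
    · refine ⟨AlgHom.id k _, RingHom.isIntegral_of_surjective _ Function.surjective_id,
        fun i => ⟨0, Nat.zero_le _, ?_⟩⟩
      rw [hbot i, Ideal.comap_bot_of_injective _ Function.injective_id, lin_zero]
    classical
    push Not at hbot
    let S := Finset.univ.filter fun i => q i ≠ ⊥
    have hS : S.Nonempty := by
      obtain ⟨i, hi⟩ := hbot; exact ⟨i, by simpa [S] using hi⟩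
    obtain ⟨f, fq, hf⟩ := Submodule.exists_mem_ne_zero_of_ne_bot
      (Finset.mem_filter.1 (S.min'_mem hS)).2
    have hfall : ∀ i, q i ≠ ⊥ → f ∈ q i := fun i hi =>
      hmono (S.min'_le i (by simpa [S] using hi)) fq
    have hu : ¬ IsUnit f := fun h => (hq _).ne_top (Ideal.eq_top_of_isUnit_mem _ fq h)
    obtain ⟨σ, hσ, hσ0⟩ : ∃ σ : MvPolynomial (Fin (d + 1)) k →ₐ[k] MvPolynomial (Fin (d + 1)) k,
        σ.toRingHom.IsIntegral ∧ σ (X 0) = f :=
      ⟨L02.CAlg.RefinedNN.sub f, L02.CAlg.RefinedNN.sub_isIntegral f hf hu,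
        by simp [L02.CAlg.RefinedNN.sub]⟩
    obtain ⟨ι, hιX⟩ : ∃ ι : MvPolynomial (Fin d) k →ₐ[k] MvPolynomial (Fin (d + 1)) k,
        ∀ j, ι (X j) = X j.succ := ⟨rename Fin.succ, fun j => by simp⟩
    haveI := fun i => hq i
    obtain ⟨φ, hφ, hφq⟩ := hd r (fun i => ((q i).comap σ).comap ι)
      (fun i => Ideal.comap_isPrime _ _)
      (fun i j hij => Ideal.comap_mono (Ideal.comap_mono (hmono hij)))
    obtain ⟨φ', hφ0, hφS⟩ : ∃ φ' : MvPolynomial (Fin (d + 1)) k →ₐ[k] MvPolynomial (Fin (d + 1)) k,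
        φ' (X 0) = X 0 ∧ ∀ j : Fin d, φ' (X j.succ) = ι (φ (X j)) :=
      ⟨aeval (Fin.cons (X 0) fun i => ι (φ (X i))), by simp, fun j => by simp⟩
    have hι : φ'.comp ι = ι.comp φ := algHom_ext fun i => by simp [hιX, hφS]
    have hι' : ∀ x, φ' (ι x) = ι (φ x) := fun x => AlgHom.congr_fun hι x
    have hφ' : φ'.toRingHom.IsIntegral := by
      intro b
      induction b using MvPolynomial.induction_on with
      | C a =>
        have : (C a : MvPolynomial (Fin (d + 1)) k) = φ'.toRingHom (C a) := (φ'.commutes a).symm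
        rw [this]
        exact φ'.toRingHom.isIntegralElem_map
      | add p q hp hq => exact RingHom.IsIntegralElem.add _ hp hq
      | mul_X p i hp =>
        refine RingHom.IsIntegralElem.mul _ hp ?_
        cases i using Fin.cases with
        | zero =>
          have : (X 0 : MvPolynomial (Fin (d + 1)) k) = φ'.toRingHom (X 0) := hφ0.symm
          rw [this]
          exact φ'.toRingHom.isIntegralElem_map
        | succ j =>
          obtain ⟨P, hP, hPe⟩ := hφ (X j)
          refine ⟨P.map ι.toRingHom, hP.map _, ?_⟩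
          have hc : φ'.toRingHom.comp ι.toRingHom = ι.toRingHom.comp φ.toRingHom :=
            RingHom.ext hι'
          rw [Polynomial.eval₂_map, hc,
            show (X j.succ : MvPolynomial (Fin (d + 1)) k) = ι.toRingHom (X j) from (hιX j).symm,
            ← Polynomial.hom_eval₂, hPe, map_zero]
    have hall : (σ.comp φ').toRingHom.IsIntegral := RingHom.IsIntegral.trans _ _ hφ' hσ
    refine ⟨σ.comp φ', hall, fun i => ?_⟩
    by_cases hi : q i = ⊥
    · refine ⟨0, Nat.zero_le _, ?_⟩
      rw [hi, Ideal.comap_bot_of_injective _ (injective_of_isIntegral _ hall), lin_zero]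
    obtain ⟨s, hs, hsq⟩ := hφq i
    obtain ⟨q₁, hq₁⟩ : ∃ q₁ : Ideal (MvPolynomial (Fin (d + 1)) k), q₁ = (q i).comap σ := ⟨_, rfl⟩
    have hX0 : (X 0 : MvPolynomial (Fin (d + 1)) k) ∈ q₁ := by
      rw [hq₁, Ideal.mem_comap, hσ0]
      exact hfall i hi
    rw [← hq₁] at hsq
    refine ⟨s + 1, Nat.succ_le_succ hs, ?_⟩
    rw [show (q i).comap (σ.comp φ') = q₁.comap φ' by rw [hq₁]; exact (Ideal.comap_comap _ _).symm]
    apply le_antisymm
    · intro p hp
      have hdec : ∀ p : MvPolynomial (Fin (d + 1)) k,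
          p - ι (aeval (Fin.cons 0 X : Fin (d + 1) → MvPolynomial (Fin d) k) p) ∈
            Ideal.span {(X 0 : MvPolynomial (Fin (d + 1)) k)} := by
        intro p
        induction p using MvPolynomial.induction_on with
        | C a => simp [← algebraMap_eq]
        | add p q hp hq =>
          rw [map_add, map_add, add_sub_add_comm]
          exact add_mem hp hq
        | mul_X p i hp =>
          rw [map_mul, map_mul, aeval_X]
          cases i using Fin.cases with
          | zero => simpa using Ideal.mul_mem_left _ p (Ideal.mem_span_singleton_self (X 0))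
          | succ j =>
            rw [Fin.cons_succ, hιX, ← sub_mul]
            exact Ideal.mul_mem_right _ _ hp
      set p₀ := aeval (Fin.cons 0 X : Fin (d + 1) → MvPolynomial (Fin d) k) p
      have hle : Ideal.span {(X 0 : MvPolynomial (Fin (d + 1)) k)} ≤ lin k (d + 1) (s + 1) := by
        rw [Ideal.span_le, Set.singleton_subset_iff]
        exact Ideal.subset_span ⟨0, Nat.succ_pos _, rfl⟩
      have h1 : φ' (p - ι p₀) ∈ q₁ := by
        obtain ⟨c, hc⟩ := Ideal.mem_span_singleton'.mp (hdec p)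
        rw [← hc, map_mul]
        refine Ideal.mul_mem_left _ _ ?_
        rw [hφ0]; exact hX0
      have h2 : p₀ ∈ (q₁.comap ι).comap φ := by
        rw [Ideal.mem_comap, Ideal.mem_comap]
        rw [← hι', show φ' (ι p₀) = φ' p - φ' (p - ι p₀) by rw [map_sub, sub_sub_cancel]]
        exact sub_mem hp h1
      rw [hsq] at h2
      have h3 : ι p₀ ∈ lin k (d + 1) (s + 1) := by
        have h4 := Ideal.mem_map_of_mem ι h2
        rw [lin, Ideal.map_span] at h4
        refine Ideal.span_mono ?_ h4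
        rintro _ ⟨_, ⟨i, hi, rfl⟩, rfl⟩
        exact ⟨i.succ, by simpa using hi, (hιX i).symm⟩
      have := add_mem h3 (hle (hdec p))
      rwa [add_sub_cancel] at this
    · rw [lin, Ideal.span_le]
      rintro _ ⟨i, hi, rfl⟩
      rw [SetLike.mem_coe, Ideal.mem_comap]
      cases i using Fin.cases with
      | zero => rw [hφ0]; exact hX0
      | succ j =>
        have h : (X j : MvPolynomial (Fin d) k) ∈ (q₁.comap ι).comap φ :=
          hsq ▸ (X_mem_lin_iff j).2 (by simpa using hi)
        rw [Ideal.mem_comap, Ideal.mem_comap] at h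
        rw [hφS]
        exact h

variable {A : Type u} [CommRing A] [Algebra k A] (φ : MvPolynomial (Fin d) k →ₐ[k] A)

lemma comap_killFirst {t j : ℕ} (ht : t ≤ j) :
    Ideal.comap (killFirst k d t) (Ideal.map (killFirst k d t) (lin k d j)) = lin k d j := by
  rw [Ideal.comap_map_of_surjective _ (killFirst_surjective t), sup_eq_left, ← RingHom.ker_eq_comap_bot,
    ker_killFirst]
  exact lin_mono ht

/-- Going down between two given primes. -/
theorem exists_between [IsDomain A] (hφ : φ.toRingHom.IsIntegral)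
    {t j s : ℕ} (htj : t ≤ j) (hjs : j ≤ s) (P : Ideal A) [P.IsPrime] (hP : P.comap φ = lin k d t)
    (Q : Ideal A) [Q.IsPrime] (hQ : Q.comap φ = lin k d s) (hPQ : P ≤ Q) :
    ∃ R : Ideal A, R.IsPrime ∧ R.comap φ = lin k d j ∧ P ≤ R ∧ R ≤ Q := by
  let C := MvPolynomial {l : Fin d // t ≤ (l : ℕ)} k
  let ψ : C →ₐ[k] A ⧸ P := (Ideal.Quotient.mkₐ k P).comp (φ.comp (rename Subtype.val))
  have hψ : ∀ p, ψ (killFirst k d t p) = Ideal.Quotient.mk P (φ p) := fun p => by
    show Ideal.Quotient.mk P (φ (rename Subtype.val (killFirst k d t p))) = _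
    rw [Ideal.Quotient.eq, ← map_sub, ← neg_mem_iff, ← map_neg, neg_sub, ← Ideal.mem_comap, hP]
    exact sub_rename_killFirst_mem t p
  letI := ψ.toRingHom.toAlgebra
  haveI : FaithfulSMul C (A ⧸ P) := by
    refine (faithfulSMul_iff_algebraMap_injective _ _).2 ((injective_iff_map_eq_zero _).2 fun c hc => ?_)
    obtain ⟨p, rfl⟩ := killFirst_surjective t c
    have h : ψ (killFirst k d t p) = 0 := hc
    rw [hψ, Ideal.Quotient.eq_zero_iff_mem, ← Ideal.mem_comap, hP, ← ker_killFirst] at h
    exact h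
  have hcomp : ψ.toRingHom.comp (killFirst k d t).toRingHom = (Ideal.Quotient.mk P).comp φ.toRingHom :=
    RingHom.ext hψ
  haveI : Algebra.IsIntegral C (A ⧸ P) := ⟨RingHom.IsIntegral.tower_top (f := (killFirst k d t).toRingHom)
    (g := ψ.toRingHom) (hcomp ▸ RingHom.IsIntegral.trans _ _ hφ
      (RingHom.isIntegral_of_surjective _ Ideal.Quotient.mk_surjective))⟩
  let J : ℕ → Ideal C := fun i => (lin k d i).map (killFirst k d t)
  have hJ : ∀ i, t ≤ i → (J i).IsPrime := fun i hi =>
    Ideal.map_isPrime_of_surjective (killFirst_surjective t) (by rw [ker_killFirst]; exact lin_mono hi)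
  haveI := hJ j htj
  haveI := hJ s (htj.trans hjs)
  let Q' : Ideal (A ⧸ P) := Q.map (Ideal.Quotient.mk P)
  haveI : Q'.IsPrime := Ideal.map_isPrime_of_surjective Ideal.Quotient.mk_surjective (by rwa [Ideal.mk_ker])
  have hQ' : Q'.comap (Ideal.Quotient.mk P) = Q := by
    rw [Ideal.comap_map_of_surjective _ Ideal.Quotient.mk_surjective, sup_eq_left,
      ← RingHom.ker_eq_comap_bot, Ideal.mk_ker]
    exact hPQ
  haveI : Q'.LiesOver (J s) := ⟨by
    refine Ideal.comap_injective_of_surjective _ (killFirst_surjective t) ?_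
    show Ideal.comap (killFirst k d t) (J s) = Ideal.comap (killFirst k d t).toRingHom (Q'.comap ψ.toRingHom)
    rw [Ideal.comap_comap, hcomp, ← Ideal.comap_comap, hQ', comap_killFirst (htj.trans hjs)]
    exact hQ.symm⟩
  obtain ⟨R', hR'Q, hR', hR'j⟩ := Ideal.exists_ideal_le_liesOver_of_le (p := J j) (q := J s) Q'
    (Ideal.map_mono (lin_mono hjs))
  refine ⟨R'.comap (Ideal.Quotient.mk P), Ideal.comap_isPrime _ _, ?_, ?_, ?_⟩
  · show Ideal.comap φ.toRingHom _ = _
    rw [Ideal.comap_comap, ← hcomp, ← Ideal.comap_comap]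
    show Ideal.comap (killFirst k d t) (R'.under C) = _
    rw [← hR'j.over, comap_killFirst htj]
  · intro x hx
    rw [Ideal.mem_comap, Ideal.Quotient.eq_zero_iff_mem.2 hx]
    exact zero_mem _
  · exact (Ideal.comap_mono hR'Q).trans hQ'.le

/-- Going up above a given prime. -/
theorem exists_above (hφ : φ.toRingHom.IsIntegral)
    {t s : ℕ} (hts : t ≤ s) (P : Ideal A) [P.IsPrime] (hP : P.comap φ = lin k d t) :
    ∃ Q : Ideal A, Q.IsPrime ∧ Q.comap φ = lin k d s ∧ P ≤ Q := by
  letI := φ.toRingHom.toAlgebra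
  haveI : Algebra.IsIntegral (MvPolynomial (Fin d) k) A := ⟨hφ⟩
  obtain ⟨Q, hle, hQ, hQs⟩ := Ideal.exists_ideal_over_prime_of_isIntegral_of_isPrime (lin k d s) P
    (hP.le.trans (lin_mono hts))
  exact ⟨Q, hQ, hQs, hle⟩

/-- Extending a chain of primes to a saturated one. -/
theorem exists_chain [IsDomain A] (hφ : φ.toRingHom.IsIntegral) (hinj : Function.Injective φ)
    {r : ℕ} (q : Fin r → PrimeSpectrum A) (hq : StrictMono q) (h : Fin r → ℕ) (hh : ∀ i, h i ≤ d)
    (hqh : ∀ i, (q i).asIdeal.comap φ = lin k d (h i)) :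
    ∀ (m j : ℕ), j + m = d → ∃ Q : ℕ → PrimeSpectrum A,
      (∀ l, j ≤ l → l ≤ d → (Q l).asIdeal.comap φ = lin k d l) ∧
      (∀ l, j ≤ l → l < d → (Q l).asIdeal ≤ (Q (l + 1)).asIdeal) ∧
      (∀ i, j ≤ h i → Q (h i) = q i) ∧ (∀ i, h i ≤ j → (q i).asIdeal ≤ (Q j).asIdeal) := by
  classical
  letI := φ.toRingHom.toAlgebra
  haveI : Algebra.IsIntegral (MvPolynomial (Fin d) k) A := ⟨hφ⟩
  have hhm : StrictMono h := fun a b hab => by
    rcases lt_or_ge (h a) (h b) with hlt | hge
    · exact hlt
    · exfalso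
      have hle : lin k d (h b) ≤ lin k d (h a) := lin_mono hge
      rw [← hqh, ← hqh] at hle
      have hlt : (q a).asIdeal < (q b).asIdeal := hq hab
      haveI := (q a).2
      exact (Ideal.IsIntegral.comap_lt_comap (R := MvPolynomial (Fin d) k) hlt).not_ge hle
  -- the largest given prime below a level
  have hlow : ∀ j, j ≤ d → ∃ (t : ℕ) (P : PrimeSpectrum A), t ≤ j ∧ P.asIdeal.comap φ = lin k d t ∧
      (∀ i, h i ≤ j → (q i).asIdeal ≤ P.asIdeal) ∧
      (∀ Q : PrimeSpectrum A, (∀ i, h i ≤ j → (q i).asIdeal ≤ Q.asIdeal) → P.asIdeal ≤ Q.asIdeal) := by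
    intro j _
    by_cases hne : (Finset.univ.filter fun i => h i ≤ j).Nonempty
    · let i₀ := (Finset.univ.filter fun i => h i ≤ j).max' hne
      have hi₀ : h i₀ ≤ j := (Finset.mem_filter.1 (Finset.max'_mem _ hne)).2
      exact ⟨h i₀, q i₀, hi₀, hqh i₀,
        fun i hi => hq.monotone (Finset.le_max' _ i (by simp [hi])), fun Q hQ => hQ i₀ hi₀⟩
    · refine ⟨0, ⟨⊥, Ideal.isPrime_bot⟩, Nat.zero_le j, ?_, fun i hi => (hne ⟨i, by simp [hi]⟩).elim,
        fun Q _ => bot_le⟩
      show Ideal.comap φ ⊥ = _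
      rw [Ideal.comap_bot_of_injective _ hinj, lin_zero]
  intro m
  induction m with
  | zero =>
    intro j hj
    obtain rfl : j = d := by omega
    by_cases hex : ∃ i, h i = j
    · obtain ⟨i₀, hi₀⟩ := hex
      refine ⟨fun _ => q i₀, fun l h1 h2 => ?_, fun l h1 h2 => absurd h1 (by omega), fun i hi => ?_,
        fun i hi => ?_⟩
      · rw [show l = h i₀ by omega]; exact hqh i₀
      · exact congrArg q (hhm.injective (show h i₀ = h i by have := hh i; omega))
      · exact hq.monotone (hhm.le_iff_le.1 (hi.trans hi₀.ge))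
    · obtain ⟨t, P, ht, hPc, hPup, -⟩ := hlow j le_rfl
      haveI := P.2
      obtain ⟨Q, hQ, hQc, hPQ⟩ := exists_above φ hφ ht P.asIdeal hPc
      refine ⟨fun _ => ⟨Q, hQ⟩, fun l h1 h2 => ?_, fun l h1 h2 => absurd h1 (by omega),
        fun i hi => absurd ⟨i, le_antisymm (hh i) hi⟩ hex, fun i hi => (hPup i hi).trans hPQ⟩
      rw [show l = j by omega]; exact hQc
  | succ m ih =>
    intro j hj
    obtain ⟨Q, hQc, hQle, hQq, hQlow⟩ := ih (j + 1) (by omega)
    obtain ⟨R, hRc, hRle, hRq, hRlow⟩ : ∃ R : PrimeSpectrum A, R.asIdeal.comap φ = lin k d j ∧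
        R.asIdeal ≤ (Q (j + 1)).asIdeal ∧ (∀ i, h i = j → R = q i) ∧
        (∀ i, h i ≤ j → (q i).asIdeal ≤ R.asIdeal) := by
      by_cases hex : ∃ i, h i = j
      · obtain ⟨i₀, hi₀⟩ := hex
        exact ⟨q i₀, hi₀ ▸ hqh i₀, hQlow i₀ (by omega),
          fun i hi => congrArg q (hhm.injective (hi₀.trans hi.symm)),
          fun i hi => hq.monotone (hhm.le_iff_le.1 (hi.trans hi₀.ge))⟩
      · obtain ⟨t, P, ht, hPc, hPup, hPmin⟩ := hlow j (by omega)
        haveI := P.2
        haveI := (Q (j + 1)).2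
        obtain ⟨R, hR, hRc, hPR, hRQ⟩ := exists_between φ hφ ht (Nat.le_succ j) P.asIdeal hPc
          (Q (j + 1)).asIdeal (hQc _ le_rfl (by omega))
          (hPmin _ fun i hi => hQlow i (by omega))
        exact ⟨⟨R, hR⟩, hRc, hRQ, fun i hi => absurd ⟨i, hi⟩ hex, fun i hi => (hPup i hi).trans hPR⟩
    refine ⟨Function.update Q j R, fun l h1 h2 => ?_, fun l h1 h2 => ?_, fun i hi => ?_, fun i hi => ?_⟩
    · rcases eq_or_ne l j with rfl | hl
      · rw [Function.update_self]; exact hRc
      · rw [Function.update_of_ne hl]; exact hQc l (by omega) h2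
    · rw [Function.update_of_ne (show l + 1 ≠ j by omega)]
      rcases eq_or_ne l j with rfl | hl
      · rw [Function.update_self]; exact hRle
      · rw [Function.update_of_ne hl]; exact hQle l (by omega) h2
    · rcases eq_or_ne (h i) j with he | he
      · rw [he, Function.update_self]; exact hRq i he
      · rw [Function.update_of_ne he]; exact hQq i (by omega)
    · rw [Function.update_self]; exact hRlow i hi

end Groth.L28.ChainNN
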